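import Groth.Agent.TFCurv.K975.GenExt
import Groth.Agent.TFOne.K975.DVR

/-!
# Stability of the generic fibre of a deformation (helper975)

`R` a discrete valuation ring with uniformiser `ϖ`, `Y ⟶ Spec R` a flat proper family of curves with special fibre
`i : X ⟶ Y` over `k` and generic fibre `j : Z ⟶ Y` over `K`. `E`, `E'` flat coherent modules with maps
`w : E ⟶ E'`, `u : E' ⟶ E`, `w u = u w = ϖ`, whose special fibres are non-split extensions `T`, `T'` of
non-isomorphic stable bundles of the same slope, with `Hom(T.X₁, T'.X₁) = Hom(T'.X₁, T.X₁) = 0`.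
* `st_generic`: if the generic fibre of `E` is semistable, then it is stable.
-/

set_option autoImplicit false
universe u

open CategoryTheory CategoryTheory.Limits AlgebraicGeometry TopologicalSpace Opposite

namespace K975.N6

open Groth.Agent Groth.Agent.VarietyA.DegRank K707.Base K707.Deg K707.Slope K707.Semi K707.TensL K975.GenExt
open K334.NonSplit

section Fam

variable {k : Type u} [Field k] {R : Type u} [CommRing R] [IsDomain R] [IsDiscreteValuationRing R]
  {K : Type u} [Field K] [Algebra R K] [IsFractionRing R K] {σ : R →+* k} (hσ : Function.Surjective σ)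
  {Y : Scheme.{u}} [Y.Over (Spec (CommRingCat.of R))] [IsProper (Y ↘ Spec (CommRingCat.of R))]
  {X : Scheme.{u}} [X.Over (Spec (CommRingCat.of k))] {i : X ⟶ Y}
  (Hi : IsPullback i (X ↘ Spec (CommRingCat.of k)) (Y ↘ Spec (CommRingCat.of R)) (Spec.map (CommRingCat.ofHom σ)))
  {Z : Scheme.{u}} [Z.Over (Spec (CommRingCat.of K))] {j : Z ⟶ Y}
  (Hj : IsPullback j (Z ↘ Spec (CommRingCat.of K)) (Y ↘ Spec (CommRingCat.of R))
    (Spec.map (CommRingCat.ofHom (algebraMap R K))))

omit [IsProper (Y ↘ Spec (CommRingCat.of R))] in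
include Hj in
theorem isOpenImmersion : IsOpenImmersion j := by
  have := Models.DVRGeneric.isOpenImmersion_generic R K
  exact MorphismProperty.of_isPullback Hj.flip inferInstance

omit [IsDomain R] [IsDiscreteValuationRing R] [IsProper (Y ↘ Spec (CommRingCat.of R))] in
include hσ Hi in
theorem exists_quot : ∃ q : X ⟶ Spec (CommRingCat.of (R ⧸ RingHom.ker σ)),
    IsPullback i q (Y ↘ Spec (CommRingCat.of R))
      (Spec.map (CommRingCat.ofHom (Ideal.Quotient.mk (RingHom.ker σ)))) := by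
  let e : (R ⧸ RingHom.ker σ) ≃+* k := RingHom.quotientKerEquivOfSurjective hσ
  let e' : CommRingCat.of (R ⧸ RingHom.ker σ) ≅ CommRingCat.of k := e.toCommRingCatIso
  let ee : Spec (CommRingCat.of k) ≅ Spec (CommRingCat.of (R ⧸ RingHom.ker σ)) := Scheme.Spec.mapIso e'.op
  have h1 : ee.hom ≫ Spec.map (CommRingCat.ofHom (Ideal.Quotient.mk (RingHom.ker σ))) =
      Spec.map (CommRingCat.ofHom σ) := by
    change Spec.map e'.hom ≫ _ = _
    rw [← Spec.map_comp]
    congr 1
  refine ⟨(X ↘ Spec (CommRingCat.of k)) ≫ ee.hom, ?_⟩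
  refine Hi.of_iso (Iso.refl _) (Iso.refl _) ee (Iso.refl _) ?_ ?_ ?_ ?_
  · simp
  · simp
  · simp
  · rw [Iso.refl_hom, Category.comp_id, h1]

omit [IsProper (Y ↘ Spec (CommRingCat.of R))] in
include hσ Hi in
theorem un_exact {ϖ : R} (hϖ : Irreducible ϖ) {M : Y.Modules} (hM : Coh.IsQCoh M) :
    ∃ w : Formal.smulMod R M ϖ ≫ (Scheme.Modules.pullbackPushforwardAdjunction i).unit.app M = 0,
      (ShortComplex.mk (Formal.smulMod R M ϖ) ((Scheme.Modules.pullbackPushforwardAdjunction i).unit.app M) w).Exact := by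
  obtain ⟨q, hq⟩ := exists_quot hσ Hi
  have hmax : (RingHom.ker σ).IsMaximal := RingHom.ker_isMaximal_of_surjective σ hσ
  have hJ : RingHom.ker σ = Ideal.span {ϖ} := by
    rw [IsLocalRing.eq_maximalIdeal hmax]
    exact hϖ.maximalIdeal_eq
  exact (K77.ModSeq.exact_un' (A := R) ϖ hJ i q hq M hM).2

omit [IsProper (Y ↘ Spec (CommRingCat.of R))] in
include hσ Hi in
theorem map_smulMod {ϖ : R} (hϖ : Irreducible ϖ) {M : Y.Modules} (hM : Coh.IsQCoh M) :
    (Scheme.Modules.pullback i).map (Formal.smulMod R M ϖ) = 0 := by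
  obtain ⟨w, -⟩ := un_exact hσ Hi hϖ hM
  apply ((Scheme.Modules.pullbackPushforwardAdjunction i).homEquiv _ _).injective
  rw [Adjunction.homEquiv_unit, Adjunction.homEquiv_unit, Functor.map_zero, comp_zero]
  exact ((Scheme.Modules.pullbackPushforwardAdjunction i).unit.naturality (Formal.smulMod R M ϖ)).symm.trans w

omit [IsProper (Y ↘ Spec (CommRingCat.of R))] in
include hσ Hi in
/-- A map which vanishes on the special fibre is divisible by the uniformiser. -/
theorem exists_div {ϖ : R} (hϖ : Irreducible ϖ) {M N : Y.Modules} (hN : Coh.IsQCoh N)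
    (hm : Mono (Formal.smulMod R N ϖ)) (φ : M ⟶ N) (h : (Scheme.Modules.pullback i).map φ = 0) :
    ∃ ψ : M ⟶ N, ψ ≫ Formal.smulMod R N ϖ = φ := by
  obtain ⟨w, hex⟩ := un_exact hσ Hi hϖ hN
  have h1 : φ ≫ (Scheme.Modules.pullbackPushforwardAdjunction i).unit.app N = 0 := by
    refine ((Scheme.Modules.pullbackPushforwardAdjunction i).unit.naturality φ).trans ?_
    change _ ≫ (Scheme.Modules.pushforward i).map ((Scheme.Modules.pullback i).map φ) = 0
    rw [h, Functor.map_zero, comp_zero]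
  have hm' : Mono (ShortComplex.mk (Formal.smulMod R N ϖ)
    ((Scheme.Modules.pullbackPushforwardAdjunction i).unit.app N) w).f := hm
  obtain ⟨l, hl⟩ := hex.lift' φ h1
  exact ⟨l, hl⟩

/-! ### Ranks and degrees of the fibres -/

section Numbers

variable [IsIntegral X] [IsIntegral Z] (hX : topologicalKrullDim X = 1) (hZ : topologicalKrullDim Z = 1)
  [Flat (Y ↘ Spec (CommRingCat.of R))]

include Hi Hj

omit [IsFractionRing R K] [IsIntegral X] [IsIntegral Z] in
theorem euler_structure :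
    Curv2.euler k X (Coh.structureModule X) = Curv2.euler K Z (Coh.structureModule Z) := by
  have h := Fam.euler_eq (Y ↘ Spec (CommRingCat.of R)) (CurvesB.UnitCoh.isCoh_structureModule Y)
    (K77.Total.isFlatOver_structureModule _) Hi Hj
  rw [euler_iso k (Groth.Agent.Ega3B.PullTensor.nonempty_pullUnitIso i).some,
    euler_iso K (Groth.Agent.Ega3B.PullTensor.nonempty_pullUnitIso j).some] at h
  exact h

include hX hZ

omit [IsFractionRing R K] [Flat (Y ↘ Spec (CommRingCat.of R))] in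
theorem psi_eq {L F : Y.Modules} (hL : FlatMod.IsFinLocFreeOfRank 1 L) (hF : Coh.IsCoh F)
    (hfl : FlatMod.IsFlatOver (Y ↘ Spec (CommRingCat.of R)) F) :
    (rk ((Scheme.Modules.pullback i).obj F) : ℤ) * dg k ((Scheme.Modules.pullback i).obj L) =
      rk ((Scheme.Modules.pullback j).obj F) * dg K ((Scheme.Modules.pullback j).obj L) := by
  have pX : IsProper (X ↘ Spec (CommRingCat.of k)) := MorphismProperty.of_isPullback Hi inferInstance
  have pZ : IsProper (Z ↘ Spec (CommRingCat.of K)) := MorphismProperty.of_isPullback Hj inferInstance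
  have h1 := Fam.Psi_eq (Y ↘ Spec (CommRingCat.of R)) hL hF hfl Hi Hj
  have h2 := Fam.euler_eq (Y ↘ Spec (CommRingCat.of R)) hF hfl Hi Hj
  have a1 := S1557.result k X hX 1 _ (DVR.rank_pull i hL) _ (DVR.isCoh_pull i hF)
  have a2 := S1557.result K Z hZ 1 _ (DVR.rank_pull j hL) _ (DVR.isCoh_pull j hF)
  unfold K77.TF.Psi at h1
  rw [a1, a2, h2] at h1
  rw [dg_of_rank k (DVR.rank_pull i hL), dg_of_rank K (DVR.rank_pull j hL)]
  exact add_right_cancel h1

omit [IsFractionRing R K] in
theorem numbers {L F : Y.Modules} (hL : FlatMod.IsFinLocFreeOfRank 1 L)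
    (hL0 : dg k ((Scheme.Modules.pullback i).obj L) ≠ 0) (hF : Coh.IsCoh F)
    (hfl : FlatMod.IsFlatOver (Y ↘ Spec (CommRingCat.of R)) F) :
    rk ((Scheme.Modules.pullback i).obj F) = rk ((Scheme.Modules.pullback j).obj F) ∧
      dg k ((Scheme.Modules.pullback i).obj F) = dg K ((Scheme.Modules.pullback j).obj F) := by
  have hO : FlatMod.IsFinLocFreeOfRank 1 (Coh.structureModule Y) :=
    VarietyB.DegCartier.isFinLocFreeOfRank_one Fdesc.LocGen.isInvertible_structureModule
  have h0 := psi_eq Hi Hj hX hZ hL (CurvesB.UnitCoh.isCoh_structureModule Y)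
    (K77.Total.isFlatOver_structureModule (Y ↘ Spec (CommRingCat.of R)))
  rw [rk_of_rank (DVR.rank_pull i hO), rk_of_rank (DVR.rank_pull j hO)] at h0
  have h1 := psi_eq Hi Hj hX hZ hL hF hfl
  have h2 := Fam.euler_eq (Y ↘ Spec (CommRingCat.of R)) hF hfl Hi Hj
  have h3 : dg k ((Scheme.Modules.pullback i).obj L) = dg K ((Scheme.Modules.pullback j).obj L) := by
    simpa using h0
  rw [← h3] at h1
  have h4 := mul_right_cancel₀ hL0 h1
  have h5 : rk ((Scheme.Modules.pullback i).obj F) = rk ((Scheme.Modules.pullback j).obj F) := by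
    exact_mod_cast h4
  refine ⟨h5, ?_⟩
  rw [dg, dg, h2, h5, euler_structure Hi Hj]

end Numbers

/-! ### The extension of a submodule of the generic fibre -/

section Sub

variable [IsIntegral X] [IsIntegral Z] (C : Crv k X) (CK : Crv K Z) [Flat (Y ↘ Spec (CommRingCat.of R))]

omit [IsProper (Y ↘ Spec (CommRingCat.of R))] [IsIntegral Z] [Flat (Y ↘ Spec (CommRingCat.of R))] in
include Hj in
/-- The flatness of `E / F`. -/
theorem isFlatOver_coker {E : Y.Modules} {A : Z.Modules} (a : A ⟶ (Scheme.Modules.pullback j).obj E) :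
    FlatMod.IsFlatOver (Y ↘ Spec (CommRingCat.of R)) (cokernel (exι j E a)) := by
  obtain ⟨ϖ, hϖ⟩ := IsDiscreteValuationRing.exists_irreducible R
  exact (Fam.isFlatOver_iff_mono hϖ _).mpr (mono_smulMod (IsFractionRing.injective R K) Hj.w hϖ.ne_zero a)

include Hi Hj C CK in
theorem exists_sub {L : Y.Modules} (hL : FlatMod.IsFinLocFreeOfRank 1 L)
    (hL0 : dg k ((Scheme.Modules.pullback i).obj L) ≠ 0) {E : Y.Modules} (hE : Coh.IsCoh E)
    (fE : FlatMod.IsFlatOver (Y ↘ Spec (CommRingCat.of R)) E) {A : Z.Modules}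
    (a : A ⟶ (Scheme.Modules.pullback j).obj E) [Mono a] (hA : FlatMod.IsFinLocFree A) (h0 : 0 < rk A)
    (h1 : rk A < rk ((Scheme.Modules.pullback j).obj E))
    (hs : dg K A * rk ((Scheme.Modules.pullback j).obj E) = dg K ((Scheme.Modules.pullback j).obj E) * rk A)
    {T : ShortComplex X.Modules} (hT : NS k T) (e : (Scheme.Modules.pullback i).obj E ≅ T.X₂) :
    Coh.IsCoh (ex j E a) ∧ FlatMod.IsFlatOver (Y ↘ Spec (CommRingCat.of R)) (ex j E a) ∧
      Nonempty ((Scheme.Modules.pullback i).obj (ex j E a) ≅ T.X₁) := by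
  have := isOpenImmersion Hj
  have pX : IsProper (X ↘ Spec (CommRingCat.of k)) := MorphismProperty.of_isPullback Hi inferInstance
  have pZ : IsProper (Z ↘ Spec (CommRingCat.of K)) := MorphismProperty.of_isPullback Hj inferInstance
  have nY := Fam.isNoetherian (Y ↘ Spec (CommRingCat.of R))
  have nZ := isNoetherian K (X := Z)
  have nX := isNoetherian k (X := X)
  have qj : QuasiCompact j := inferInstance
  have hcA : Coh.IsQCoh (cokernel a) :=
    (Sga67.CohBasic.isCoh_cokernel a (coh_of_vb hA).1 (DVR.isCoh_pull j hE)).1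
  have hF : Coh.IsCoh (ex j E a) := isCoh_ex j hE a hcA
  have fF : FlatMod.IsFlatOver (Y ↘ Spec (CommRingCat.of R)) (ex j E a) := DVR.isFlatOver_of_mono (exι j E a) fE
  refine ⟨hF, fF, ?_⟩
  obtain ⟨b, -⟩ := exists_iso j a
  obtain ⟨n1, n2⟩ := numbers Hi Hj C.dim CK.dim hL hL0 hF fF
  obtain ⟨m1, m2⟩ := numbers Hi Hj C.dim CK.dim hL hL0 hE fE
  rw [rk_iso b] at n1
  rw [dg_iso K b] at n2
  have hm : Mono ((Scheme.Modules.pullback i).map (exι j E a)) :=
    PerfC.RelFlat.mono_pullback_map Hi (ShortComplex.mk (exι j E a) (cokernel.π (exι j E a)) (cokernel.condition _))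
      (VarietyA.StalkCrit.shortExact_cokernel (exι j E a)) (isFlatOver_coker Hj a)
  have hm' : Mono ((Scheme.Modules.pullback i).map (exι j E a) ≫ e.hom) := mono_comp _ _
  have hv : FlatMod.IsFinLocFree ((Scheme.Modules.pullback i).obj (ex j E a)) :=
    isFinLocFree_of_rank (isFinLocFreeOfRank_of_mono (X := X) C.pid
      ((Scheme.Modules.pullback i).map (exι j E a) ≫ e.hom) (DVR.isCoh_pull i hF) hT.v₂)
  have r2 : rk T.X₂ = rk ((Scheme.Modules.pullback j).obj E) := by rw [← rk_iso e, m1]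
  have d2 : dg k T.X₂ = dg K ((Scheme.Modules.pullback j).obj E) := by rw [← dg_iso k e, m2]
  exact hT.sub_iso C ((Scheme.Modules.pullback i).map (exι j E a) ≫ e.hom) hv (by rw [n1]; exact h0)
    (by rw [n1, r2]; exact h1) (by rw [n1, n2, r2, d2]; exact hs)

include hσ Hi Hj C CK in
/-- **Stability of the generic fibre.** -/
theorem st_generic {L : Y.Modules} (hL : FlatMod.IsFinLocFreeOfRank 1 L)
    (hL0 : dg k ((Scheme.Modules.pullback i).obj L) ≠ 0) {E E' : Y.Modules} (hE : Coh.IsCoh E) (hE' : Coh.IsCoh E')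
    (fE : FlatMod.IsFlatOver (Y ↘ Spec (CommRingCat.of R)) E)
    (fE' : FlatMod.IsFlatOver (Y ↘ Spec (CommRingCat.of R)) E') {ϖ : R} (hϖ : Irreducible ϖ)
    (w : E ⟶ E') (u : E' ⟶ E) (wu : w ≫ u = Formal.smulMod R E ϖ) (uw : u ≫ w = Formal.smulMod R E' ϖ)
    {T T' : ShortComplex X.Modules} (hT : NS k T) (hT' : NS k T') (e : (Scheme.Modules.pullback i).obj E ≅ T.X₂)
    (e' : (Scheme.Modules.pullback i).obj E' ≅ T'.X₂) (z : ∀ φ : T.X₁ ⟶ T'.X₁, φ = 0)
    (z' : ∀ φ : T'.X₁ ⟶ T.X₁, φ = 0) (hss : SS K ((Scheme.Modules.pullback j).obj E)) :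
    St K ((Scheme.Modules.pullback j).obj E) := by
  have := isOpenImmersion Hj
  intro A a ha hA h0 h1
  by_contra hlt
  have hs : dg K A * rk ((Scheme.Modules.pullback j).obj E) = dg K ((Scheme.Modules.pullback j).obj E) * rk A :=
    le_antisymm (hss A a ha hA) (not_lt.mp hlt)
  -- `w` and `u` are isomorphisms on the generic fibre
  have hunit : IsUnit (j.appTop.hom (show Γ(Y, ⊤) from Coh.toGlobal (Y ↘ Spec (CommRingCat.of R)) ϖ)) :=
    K77.GenFib.isUnit_appTop_fibre (Y ↘ Spec (CommRingCat.of R)) (algebraMap R K) j _ Hj.w ϖ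
      (fun h => hϖ.ne_zero (IsFractionRing.injective R K (by rw [h, map_zero])))
  have hpE : (Scheme.Modules.pullback j).map (Formal.smulMod R E ϖ) = Formal.smulModΓ _
      (j.appTop.hom (Coh.toGlobal (Y ↘ Spec (CommRingCat.of R)) ϖ)) :=
    Groth.Agent.Ega1.PullFormal.pullback_smulModΓ j E _
  have hpE' : (Scheme.Modules.pullback j).map (Formal.smulMod R E' ϖ) = Formal.smulModΓ _
      (j.appTop.hom (Coh.toGlobal (Y ↘ Spec (CommRingCat.of R)) ϖ)) :=
    Groth.Agent.Ega1.PullFormal.pullback_smulModΓ j E' _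
  have hiE := K77.GenFib.isIso_smulModΓ_of_isUnit ((Scheme.Modules.pullback j).obj E) _ hunit
  have hiE' := K77.GenFib.isIso_smulModΓ_of_isUnit ((Scheme.Modules.pullback j).obj E') _ hunit
  have hmw : Mono ((Scheme.Modules.pullback j).map w) := by
    have : Mono ((Scheme.Modules.pullback j).map w ≫ (Scheme.Modules.pullback j).map u) := by
      rw [← Functor.map_comp, wu, hpE]
      exact @IsIso.mono_of_iso _ _ _ _ _ hiE
    exact mono_of_mono _ ((Scheme.Modules.pullback j).map u)
  have hew : Epi ((Scheme.Modules.pullback j).map w) := by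
    have : Epi ((Scheme.Modules.pullback j).map u ≫ (Scheme.Modules.pullback j).map w) := by
      rw [← Functor.map_comp, uw, hpE']
      exact @IsIso.epi_of_iso _ _ _ _ _ hiE'
    exact epi_of_epi ((Scheme.Modules.pullback j).map u) _
  have hiw : IsIso ((Scheme.Modules.pullback j).map w) := isIso_of_mono_of_epi _
  let ew : (Scheme.Modules.pullback j).obj E ≅ (Scheme.Modules.pullback j).obj E' :=
    asIso ((Scheme.Modules.pullback j).map w)
  have ha' : Mono (a ≫ (Scheme.Modules.pullback j).map w) := mono_comp _ _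
  -- the extensions of `A`
  obtain ⟨cF, fF, ⟨f0⟩⟩ := exists_sub Hi Hj C CK hL hL0 hE fE a hA h0 h1 hs hT e
  obtain ⟨cF', fF', ⟨f0'⟩⟩ := exists_sub Hi Hj C CK hL hL0 hE' fE' (a ≫ (Scheme.Modules.pullback j).map w) hA h0
    (by rw [← rk_iso ew]; exact h1) (by rw [← rk_iso ew, ← dg_iso K ew]; exact hs) hT' e'
  obtain ⟨l, hl⟩ := exists_lift j a (a ≫ (Scheme.Modules.pullback j).map w) w (𝟙 A) (Category.id_comp _)
  obtain ⟨l', hl'⟩ := exists_lift j (a ≫ (Scheme.Modules.pullback j).map w) a u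
    (Formal.smulModΓ A (j.appTop.hom (Coh.toGlobal (Y ↘ Spec (CommRingCat.of R)) ϖ))) (by
      rw [Category.assoc, ← Functor.map_comp, wu, hpE]
      exact Groth.Agent.FormalB.ModPow.smulModΓ_naturality a _)
  have hll : l ≫ l' = Formal.smulMod R (ex j E a) ϖ := by
    rw [← cancel_mono (exι j E a), Category.assoc, hl', ← Category.assoc, hl, Category.assoc, wu,
      Groth.Agent.FormalB.ModPow.smulMod_naturality]
  -- they vanish on the special fibre
  have zl : (Scheme.Modules.pullback i).map l = 0 := by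
    have h := z (f0.inv ≫ (Scheme.Modules.pullback i).map l ≫ f0'.hom)
    rw [Iso.inv_comp_eq, comp_zero] at h
    rw [← cancel_mono f0'.hom, h, zero_comp]
  have zl' : (Scheme.Modules.pullback i).map l' = 0 := by
    have h := z' (f0'.inv ≫ (Scheme.Modules.pullback i).map l' ≫ f0.hom)
    rw [Iso.inv_comp_eq, comp_zero] at h
    rw [← cancel_mono f0.hom, h, zero_comp]
  have mF : Mono (Formal.smulMod R (ex j E a) ϖ) := (Fam.isFlatOver_iff_mono hϖ _).mp fF
  have mF' : Mono (Formal.smulMod R (ex j E' (a ≫ (Scheme.Modules.pullback j).map w)) ϖ) :=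
    (Fam.isFlatOver_iff_mono hϖ _).mp fF'
  obtain ⟨ψ, hψ⟩ := exists_div hσ Hi hϖ cF'.1 mF' l zl
  obtain ⟨ψ', hψ'⟩ := exists_div hσ Hi hϖ cF.1 mF l' zl'
  have h3 : ψ ≫ Formal.smulMod R (ex j E' (a ≫ (Scheme.Modules.pullback j).map w)) ϖ ≫ ψ' = 𝟙 (ex j E a) := by
    rw [← cancel_mono (Formal.smulMod R (ex j E a) ϖ), Category.id_comp, ← hll]
    conv_rhs => rw [← hψ, ← hψ']
    rw [← hll]
    simp only [Category.assoc]
  have h4 : 𝟙 ((Scheme.Modules.pullback i).obj (ex j E a)) = 0 := by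
    rw [← (Scheme.Modules.pullback i).map_id, ← h3, Functor.map_comp, Functor.map_comp, map_smulMod hσ Hi hϖ cF'.1, zero_comp, comp_zero]
  have h5 : IsZero T.X₁ := ((IsZero.iff_id_eq_zero _).mpr h4).of_iso f0.symm
  have h6 := rk_of_isZero h5
  have h7 := hT.p₁
  omega

end Sub

end Fam

end K975.N6
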