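import Groth.Agent.TFOne.K975.Fam
import Groth.Agent.TFOne.K77.GenFib
import Groth.Agent.TFOne.K77.Total
import Groth.Agent.Models.DVRGeneric
import Groth.Agent.ShStab.K846.GenFib
import Groth.Agent.TFCurv.K334.NonSplit
import Groth.Agent.VBCurve.K707.TensL
import Groth.Agent.Ega3B.PullTensor
import Groth.Agent.PerfC.RelFlat

/-!
# Extension of submodules from the generic fibre to a discrete valuation ring (helper975)

`ex j E i`: the extension of a submodule `i : A ⟶ j^* E` of the generic fibre `j : Z ⟶ Y`.
* `exists_iso`: its restriction to `Z` is `A`; `lift_eq`: functoriality; `mono_smulMod`: the quotient is flat.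
-/

set_option autoImplicit false
universe u

open CategoryTheory CategoryTheory.Limits AlgebraicGeometry TopologicalSpace Opposite

namespace K975.GenExt

open Groth.Agent

section Ext

variable {Y Z : Scheme.{u}} (j : Z ⟶ Y)

/-- The adjunct of the projection onto the cokernel. -/
noncomputable def cmap (E : Y.Modules) {A : Z.Modules} (i : A ⟶ (Scheme.Modules.pullback j).obj E) :
    E ⟶ (Scheme.Modules.pushforward j).obj (cokernel i) :=
  (Scheme.Modules.pullbackPushforwardAdjunction j).homEquiv E (cokernel i) (cokernel.π i)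

/-- The extension of a submodule of the pull back. -/
noncomputable abbrev ex (E : Y.Modules) {A : Z.Modules} (i : A ⟶ (Scheme.Modules.pullback j).obj E) : Y.Modules :=
  kernel (cmap j E i)

/-- The inclusion of the extension. -/
noncomputable abbrev exι (E : Y.Modules) {A : Z.Modules} (i : A ⟶ (Scheme.Modules.pullback j).obj E) :
    ex j E i ⟶ E := kernel.ι (cmap j E i)

theorem comp_cmap {E E' : Y.Modules} {A A' : Z.Modules} (i : A ⟶ (Scheme.Modules.pullback j).obj E)
    (i' : A' ⟶ (Scheme.Modules.pullback j).obj E') (φ : E ⟶ E') (c : A ⟶ A')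
    (hc : c ≫ i' = i ≫ (Scheme.Modules.pullback j).map φ) :
    ∃ m, φ ≫ cmap j E' i' = cmap j E i ≫ (Scheme.Modules.pushforward j).map m := by
  have h0 : i ≫ (Scheme.Modules.pullback j).map φ ≫ cokernel.π i' = 0 := by
    rw [← Category.assoc, ← hc, Category.assoc, cokernel.condition, comp_zero]
  refine ⟨cokernel.desc i ((Scheme.Modules.pullback j).map φ ≫ cokernel.π i') h0, ?_⟩
  unfold cmap
  rw [← Adjunction.homEquiv_naturality_left, ← Adjunction.homEquiv_naturality_right, cokernel.π_desc]

/-- Functoriality of the extension. -/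
theorem exists_lift {E E' : Y.Modules} {A A' : Z.Modules} (i : A ⟶ (Scheme.Modules.pullback j).obj E)
    (i' : A' ⟶ (Scheme.Modules.pullback j).obj E') (φ : E ⟶ E') (c : A ⟶ A')
    (hc : c ≫ i' = i ≫ (Scheme.Modules.pullback j).map φ) :
    ∃ l : ex j E i ⟶ ex j E' i', l ≫ exι j E' i' = exι j E i ≫ φ := by
  obtain ⟨m, hm⟩ := comp_cmap j i i' φ c hc
  refine ⟨kernel.lift _ (exι j E i ≫ φ) ?_, kernel.lift_ι _ _ _⟩
  rw [Category.assoc, hm, ← Category.assoc, kernel.condition, zero_comp]

theorem map_cmap {E : Y.Modules} {A : Z.Modules} (i : A ⟶ (Scheme.Modules.pullback j).obj E) :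
    (Scheme.Modules.pullback j).map (cmap j E i) ≫
      (Scheme.Modules.pullbackPushforwardAdjunction j).counit.app (cokernel i) = cokernel.π i :=
  ((Scheme.Modules.pullbackPushforwardAdjunction j).homEquiv_counit (X := E) (Y := cokernel i)
    (g := cmap j E i)).symm.trans (Equiv.symm_apply_apply _ _)

/-- The restriction of the extension. -/
theorem exists_iso [IsOpenImmersion j] {E : Y.Modules} {A : Z.Modules}
    (i : A ⟶ (Scheme.Modules.pullback j).obj E) [Mono i] :
    ∃ a : (Scheme.Modules.pullback j).obj (ex j E i) ≅ A, a.hom ≫ i = (Scheme.Modules.pullback j).map (exι j E i) := by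
  have hfl := Sga67.FlatPre.preservesFiniteLimits_pullback j
  have hcol : PreservesFiniteColimits (Scheme.Modules.pullback j) :=
    ⟨fun _ _ _ => (Scheme.Modules.pullbackPushforwardAdjunction j).leftAdjoint_preservesColimits.preservesColimitsOfShape⟩
  have hco := K846.GenFib.isIso_counit j j.isOpenEmbedding.isInducing
    (fun z => (ConcreteCategory.bijective_of_isIso (j.stalkMap z)).2) (cokernel i)
  let T : ShortComplex Y.Modules := ShortComplex.mk (exι j E i) (cmap j E i) (kernel.condition _)
  have hT : T.Exact := ShortComplex.exact_of_f_is_kernel _ (kernelIsKernel _)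
  have hT' := hT.map (Scheme.Modules.pullback j)
  have hTm : Mono (T.map (Scheme.Modules.pullback j)).f := by
    change Mono ((Scheme.Modules.pullback j).map (exι j E i))
    infer_instance
  have h1 : i ≫ (T.map (Scheme.Modules.pullback j)).g = 0 := by
    change i ≫ (Scheme.Modules.pullback j).map (cmap j E i) = 0
    rw [← cancel_mono ((Scheme.Modules.pullbackPushforwardAdjunction j).counit.app (cokernel i)), Category.assoc,
      map_cmap, cokernel.condition, zero_comp]
  obtain ⟨l, hl⟩ : ∃ l : A ⟶ (Scheme.Modules.pullback j).obj (ex j E i),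
      l ≫ (Scheme.Modules.pullback j).map (exι j E i) = i := by
    obtain ⟨l, hl⟩ := hT'.lift' i h1
    exact ⟨l, hl⟩
  have hS : (ShortComplex.mk i (cokernel.π i) (cokernel.condition i)).Exact := ShortComplex.exact_cokernel i
  have h2 : (Scheme.Modules.pullback j).map (exι j E i) ≫ cokernel.π i = 0 := by
    rw [← map_cmap, ← Category.assoc, ← Functor.map_comp, kernel.condition, Functor.map_zero, zero_comp]
  have hSm : Mono (ShortComplex.mk i (cokernel.π i) (cokernel.condition i)).f := inferInstanceAs (Mono i)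
  obtain ⟨m, hm⟩ : ∃ m : (Scheme.Modules.pullback j).obj (ex j E i) ⟶ A,
      m ≫ i = (Scheme.Modules.pullback j).map (exι j E i) := by
    obtain ⟨m, hm⟩ := hS.lift' ((Scheme.Modules.pullback j).map (exι j E i)) h2
    exact ⟨m, hm⟩
  refine ⟨⟨m, l, ?_, ?_⟩, hm⟩
  · rw [← cancel_mono ((Scheme.Modules.pullback j).map (exι j E i)), Category.assoc, hl, hm, Category.id_comp]
  · rw [← cancel_mono i, Category.assoc, hm, hl, Category.id_comp]

theorem isCoh_ex [IsLocallyNoetherian Y] [QuasiCompact j] [QuasiSeparated j] {E : Y.Modules} (hE : Coh.IsCoh E)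
    {A : Z.Modules} (i : A ⟶ (Scheme.Modules.pullback j).obj E) (hA : Coh.IsQCoh (cokernel i)) :
    Coh.IsCoh (ex j E i) :=
  Sga67.CohBasic.isCoh_kernel (cmap j E i) hE (Ega1.QcqsPush.isQCoh_pushforward j _ hA)

end Ext

section Flat

variable {R : Type u} [CommRing R] {K : Type u} [Field K] {κ : R →+* K} (hκ : Function.Injective κ)
  {Y : Scheme.{u}} [Y.Over (Spec (CommRingCat.of R))]
  {Z : Scheme.{u}} {j : Z ⟶ Y} {q : Z ⟶ Spec (CommRingCat.of K)}
  (w : j ≫ (Y ↘ Spec (CommRingCat.of R)) = q ≫ Spec.map (CommRingCat.ofHom κ))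

include hκ w

/-- The quotient by the extension is flat. -/
theorem mono_smulMod {ϖ : R} (hϖ : ϖ ≠ 0) {E : Y.Modules} {A : Z.Modules}
    (i : A ⟶ (Scheme.Modules.pullback j).obj E) : Mono (Formal.smulMod R (cokernel (exι j E i)) ϖ) := by
  let P := (Scheme.Modules.pushforward j).obj (cokernel i)
  let m : cokernel (exι j E i) ⟶ P := Abelian.factorThruCoimage (cmap j E i)
  have hm : Mono m := inferInstanceAs (Mono (Abelian.factorThruCoimage (cmap j E i)))
  have h1 : IsUnit (j.appTop.hom (show Γ(Y, ⊤) from Coh.toGlobal (Y ↘ Spec (CommRingCat.of R)) ϖ)) :=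
    K77.GenFib.isUnit_appTop_fibre (Y ↘ Spec (CommRingCat.of R)) κ j q w ϖ
      (fun h => hϖ (hκ (by rw [h, map_zero])))
  have h2 : IsIso (Formal.smulMod R P ϖ) := by
    have e := Groth.Agent.Ega1.PullFormal.pushforward_smulModΓ j (cokernel i)
      (Coh.toGlobal (Y ↘ Spec (CommRingCat.of R)) ϖ)
    have h3 := K77.GenFib.isIso_smulModΓ_of_isUnit (cokernel i) _ h1
    have h4 : IsIso ((Scheme.Modules.pushforward j).map (Formal.smulModΓ (cokernel i)
      (j.appTop.hom (Coh.toGlobal (Y ↘ Spec (CommRingCat.of R)) ϖ)))) := Functor.map_isIso _ _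
    rw [e] at h4
    exact h4
  have h5 : Mono (Formal.smulMod R (cokernel (exι j E i)) ϖ ≫ m) := by
    rw [Groth.Agent.FormalB.ModPow.smulMod_naturality]
    infer_instance
  exact mono_of_mono _ m

end Flat

end K975.GenExt
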